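import Mathlib

set_option linter.style.haveILetI false
set_option linter.unusedVariables false
set_option linter.unusedSectionVars false
set_option autoImplicit false
set_option backward.isDefEq.respectTransparency.types false

universe u

/-! helper7: Noetherian local rings: a nonempty open subset of the punctured spectrum contains a prime of coheight one (prime avoidance and the principal ideal theorem) -/

namespace Groth.Agent.Helper7.QFCurve

open IsLocalRing

/-- In a Noetherian local domain in which all nonzero primes contain a fixed nonzero ideal,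
every nonzero prime is the maximal ideal (prime avoidance and the principal ideal theorem). -/
theorem eq_maximalIdeal_of_forall_le {R : Type*} [CommRing R] [IsDomain R] [IsNoetherianRing R]
    [IsLocalRing R] (K : Ideal R) (hK : K ≠ ⊥)
    (hall : ∀ p : Ideal R, p.IsPrime → p ≠ ⊥ → K ≤ p)
    (p : Ideal R) [hp : p.IsPrime] (hp0 : p ≠ ⊥) : p = maximalIdeal R := by
  classical
  by_contra hpm
  have hplt : p < maximalIdeal R := lt_of_le_of_ne (le_maximalIdeal hp.ne_top) hpm
  have hbotlt : (⊥ : Ideal R) < p := bot_lt_iff_ne_bot.mpr hp0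
  have hfin : (K.minimalPrimes).Finite := Ideal.finite_minimalPrimes_of_isNoetherianRing R K
  let S : Finset (Ideal R) := insert ⊥ (hfin.toFinset.erase (maximalIdeal R))
  have hprime : ∀ P ∈ S, P.IsPrime := by
    intro P hP
    rcases Finset.mem_insert.mp hP with rfl | hP
    · exact Ideal.isPrime_bot
    · have := (Finset.mem_erase.mp hP).2
      rw [Set.Finite.mem_toFinset] at this
      exact this.1.1
  have hnot : ¬ ((maximalIdeal R : Set R) ⊆ ⋃ P ∈ (S : Set (Ideal R)), ((fun P => P) P : Set R)) := by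
    rw [Ideal.subset_union_prime (f := fun P => P) ⊥ ⊥ (fun P hP _ _ => hprime P hP)]
    rintro ⟨P, hP, hle⟩
    rcases Finset.mem_insert.mp hP with rfl | hP
    · exact absurd (le_bot_iff.mp hle) (ne_of_gt (hbotlt.trans hplt))
    · have h1 := Finset.mem_erase.mp hP
      have h2 := h1.2
      rw [Set.Finite.mem_toFinset] at h2
      have := h2.1.1
      exact h1.1 (le_antisymm (le_maximalIdeal this.ne_top) hle)
  obtain ⟨g, hgm, hg⟩ := Set.not_subset.mp hnot
  have hgS : ∀ P ∈ S, g ∉ P := by
    intro P hP hgP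
    apply hg
    simp only [Set.mem_iUnion]
    exact ⟨P, hP, hgP⟩
  have hg0 : g ≠ 0 := by
    intro h
    exact hgS ⊥ (Finset.mem_insert_self _ _) (by rw [h]; exact Ideal.zero_mem _)
  have hle : Ideal.span {g} ≤ maximalIdeal R := (Ideal.span_singleton_le_iff_mem _).mpr hgm
  obtain ⟨q, hq, hqm⟩ := Ideal.exists_minimalPrimes_le hle
  haveI hqp : q.IsPrime := hq.1.1
  have hgq : g ∈ q := hq.1.2 (Ideal.mem_span_singleton_self g)
  have hht : q.height ≤ 1 :=
    Ideal.height_le_one_of_isPrincipal_of_mem_minimalPrimes (Ideal.span {g}) q hq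
  have hq0 : q ≠ ⊥ := by
    intro h
    rw [h] at hgq
    exact hg0 ((Ideal.mem_bot).mp hgq)
  -- a chain of length two below a prime of height at most one is impossible
  have hchain : ∀ P : Ideal R, P.IsPrime → P ≠ ⊥ → P < q → False := by
    intro P hP hP0 hPq
    haveI := hP
    have h1 : (⊥ : Ideal R).height < P.height := by
      haveI : (⊥ : Ideal R).IsPrime := Ideal.isPrime_bot
      exact Ideal.height_strict_mono_of_isPrime_of_isPrime (bot_lt_iff_ne_bot.mpr hP0)
    have h2 : P.height < q.height := Ideal.height_strict_mono_of_isPrime_of_isPrime hPq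
    have h3 : (1 : ℕ∞) ≤ P.height := Order.one_le_iff_pos.mpr (lt_of_le_of_lt bot_le h1)
    have h4 : (1 : ℕ∞) < q.height := lt_of_le_of_lt h3 h2
    exact absurd hht (not_le.mpr h4)
  have hqm' : q ≠ maximalIdeal R := by
    intro h
    apply hchain p hp hp0
    rw [h]
    exact hplt
  obtain ⟨P, hP, hPq⟩ := Ideal.exists_minimalPrimes_le (hall q hqp hq0)
  haveI hPp : P.IsPrime := hP.1.1
  have hP0 : P ≠ ⊥ := by
    intro h
    apply hK
    rw [← le_bot_iff, ← h]
    exact hP.1.2
  have hPeq : P = q := by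
    by_contra hne
    exact hchain P hPp hP0 (lt_of_le_of_ne hPq hne)
  have hqS : q ∈ S := by
    apply Finset.mem_insert_of_mem
    rw [Finset.mem_erase]
    refine ⟨hqm', ?_⟩
    rw [Set.Finite.mem_toFinset, ← hPeq]
    exact hP
  exact hgS q hqS hgq

/-- In a Noetherian local ring, a nonempty open subset of the punctured spectrum contains a prime
`q` such that the only prime strictly containing `q` is the maximal ideal. -/
theorem exists_mem_forall_lt_eq_closedPoint {R : Type*} [CommRing R] [IsNoetherianRing R]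
    [IsLocalRing R] (T : Set (PrimeSpectrum R)) (hT : IsOpen T) (hne : T.Nonempty)
    (hm : closedPoint R ∉ T) :
    ∃ q ∈ T, ∀ p : PrimeSpectrum R, q < p → p = closedPoint R := by
  obtain ⟨K, hK⟩ := (PrimeSpectrum.isClosed_iff_zeroLocus_ideal _).mp hT.isClosed_compl
  have hKT : ∀ p : PrimeSpectrum R, p ∈ T ↔ ¬ K ≤ p.asIdeal := by
    intro p
    have : p ∈ Tᶜ ↔ K ≤ p.asIdeal := by
      rw [hK, PrimeSpectrum.mem_zeroLocus]
      rfl
    rw [← this, Set.mem_compl_iff, not_not]
  obtain ⟨q0, hq0⟩ := hne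
  obtain ⟨M, ⟨q, hqT, rfl⟩, hmax⟩ := set_has_maximal_iff_noetherian.mpr
    (inferInstance : IsNoetherian R R) {I : Ideal R | ∃ q ∈ T, q.asIdeal = I} ⟨_, q0, hq0, rfl⟩
  refine ⟨q, hqT, ?_⟩
  intro p hqp
  have hqp' : q.asIdeal < p.asIdeal := hqp
  haveI : q.asIdeal.IsPrime := q.2
  haveI : Nontrivial (R ⧸ q.asIdeal) := Ideal.Quotient.nontrivial_iff.mpr q.2.ne_top
  haveI : IsLocalRing (R ⧸ q.asIdeal) :=
    IsLocalRing.of_surjective' (Ideal.Quotient.mk q.asIdeal) Ideal.Quotient.mk_surjective
  have hker : RingHom.ker (Ideal.Quotient.mk q.asIdeal) = q.asIdeal := Ideal.mk_ker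
  have hK' : K.map (Ideal.Quotient.mk q.asIdeal) ≠ ⊥ := by
    rw [Ne, Ideal.map_eq_bot_iff_le_ker, hker]
    exact (hKT q).mp hqT
  have hall : ∀ p' : Ideal (R ⧸ q.asIdeal), p'.IsPrime → p' ≠ ⊥ →
      K.map (Ideal.Quotient.mk q.asIdeal) ≤ p' := by
    intro p' hp' hp'0
    rw [Ideal.map_le_iff_le_comap]
    haveI : (p'.comap (Ideal.Quotient.mk q.asIdeal)).IsPrime := Ideal.comap_isPrime _ _
    have hle : q.asIdeal ≤ p'.comap (Ideal.Quotient.mk q.asIdeal) := by
      intro a ha
      rw [Ideal.mem_comap, Ideal.Quotient.eq_zero_iff_mem.mpr ha]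
      exact Ideal.zero_mem _
    have hlt : q.asIdeal < p'.comap (Ideal.Quotient.mk q.asIdeal) := by
      refine lt_of_le_of_ne hle ?_
      intro h
      apply hp'0
      rw [← Ideal.map_comap_of_surjective _ Ideal.Quotient.mk_surjective p', ← h,
        Ideal.map_quotient_self]
    by_contra hcon
    exact hmax _ ⟨⟨p'.comap (Ideal.Quotient.mk q.asIdeal), inferInstance⟩,
      (hKT _).mpr hcon, rfl⟩ hlt
  have hpker : RingHom.ker (Ideal.Quotient.mk q.asIdeal) ≤ p.asIdeal := by
    rw [hker]; exact hqp'.le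
  haveI hp'prime : (p.asIdeal.map (Ideal.Quotient.mk q.asIdeal)).IsPrime :=
    Ideal.map_isPrime_of_surjective Ideal.Quotient.mk_surjective hpker
  have hp'0 : p.asIdeal.map (Ideal.Quotient.mk q.asIdeal) ≠ ⊥ := by
    rw [Ne, Ideal.map_eq_bot_iff_le_ker, hker]
    exact not_le_of_gt hqp'
  have hmaxeq := eq_maximalIdeal_of_forall_le _ hK' hall
    (p.asIdeal.map (Ideal.Quotient.mk q.asIdeal)) hp'0
  have hcm : (p.asIdeal.map (Ideal.Quotient.mk q.asIdeal)).comap (Ideal.Quotient.mk q.asIdeal) =
      p.asIdeal := by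
    rw [Ideal.comap_map_of_surjective _ Ideal.Quotient.mk_surjective]
    apply le_antisymm
    · apply sup_le le_rfl
      exact hpker
    · exact le_sup_left
  haveI : (p.asIdeal.map (Ideal.Quotient.mk q.asIdeal)).IsMaximal := by
    rw [hmaxeq]; infer_instance
  have hpmax : p.asIdeal.IsMaximal := by
    rw [← hcm]
    exact Ideal.comap_isMaximal_of_surjective _ Ideal.Quotient.mk_surjective
  apply PrimeSpectrum.ext
  exact IsLocalRing.eq_maximalIdeal hpmax

end Groth.Agent.Helper7.QFCurve
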