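import Mathlib

set_option linter.style.haveILetI false
set_option linter.unusedVariables false
set_option linter.unusedSectionVars false
set_option autoImplicit false
set_option backward.isDefEq.respectTransparency.types false

universe u

/-! helper7: points of the closure of an open subset of a locally Noetherian scheme are specializations of points of the open subset -/

namespace Groth.Agent.Helper7.QFCurve

open CategoryTheory CategoryTheory.Limits AlgebraicGeometry TopologicalSpace

/-- in a Noetherian quasi-sober space, a point of the closure of an open set is a specialization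
of a point of the open set -/
theorem exists_specializes_of_mem_closure_open_top {N : Type*} [TopologicalSpace N]
    [NoetherianSpace N] [QuasiSober N] (O : Set N) (hO : IsOpen O) (x : N)
    (hx : x ∈ closure O) : ∃ b ∈ O, b ⤳ x := by
  obtain ⟨S, hSfin, hScl, hSirr, hCS⟩ :=
    NoetherianSpace.exists_finite_set_isClosed_irreducible (isClosed_univ (X := N))
  have hO' : O = ⋃ t ∈ S, O ∩ t := by
    rw [← Set.inter_iUnion₂, ← Set.sUnion_eq_biUnion, ← hCS, Set.inter_univ]
  rw [hO', hSfin.closure_biUnion] at hx
  simp only [Set.mem_iUnion] at hx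
  obtain ⟨t, htS, hxt⟩ := hx
  obtain ⟨η, hη⟩ := QuasiSober.sober (hSirr t htS) (hScl t htS)
  have hne : (O ∩ t).Nonempty := by
    by_contra hcon
    rw [Set.not_nonempty_iff_eq_empty] at hcon
    rw [hcon, closure_empty] at hxt
    exact hxt
  have hηO : η ∈ O := (hη.mem_open_set_iff hO).mpr (by rwa [Set.inter_comm])
  refine ⟨η, hηO, ?_⟩
  have h1 : x ∈ t := by
    have := closure_mono (Set.inter_subset_right : O ∩ t ⊆ t) hxt
    rwa [(hScl t htS).closure_eq] at this
  exact hη.specializes h1

/-- in a locally Noetherian scheme, a point of the closure of an open set is a specialization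
of a point of the open set -/
theorem exists_specializes_of_mem_closure_open {X : Scheme.{u}} [IsLocallyNoetherian X]
    (O : X.Opens) (x : X) (hx : x ∈ closure (O : Set X)) : ∃ b ∈ O, b ⤳ x := by
  obtain ⟨N, hN, hxN, -⟩ := exists_isAffineOpen_mem_and_subset (U := ⊤) (x := x) (by simp)
  haveI : IsNoetherianRing Γ(X, N) := IsLocallyNoetherian.component_noetherian ⟨N, hN⟩
  haveI : NoetherianSpace N := noetherianSpace_of_isAffineOpen N hN
  haveI : QuasiSober N := inferInstanceAs (QuasiSober (N : Scheme.{u}))
  have hx' : (⟨x, hxN⟩ : N) ∈ closure (N.ι ⁻¹' (O : Set X)) := by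
    rw [← N.ι.isOpenEmbedding.isOpenMap.preimage_closure_eq_closure_preimage N.ι.continuous]
    exact hx
  obtain ⟨b, hbO, hb⟩ := exists_specializes_of_mem_closure_open_top _
    (O.isOpen.preimage N.ι.continuous) _ hx'
  exact ⟨N.ι b, hbO, hb.map N.ι.continuous⟩

end Groth.Agent.Helper7.QFCurve
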