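import Mathlib
import Groth.Agent.Lib.Helper7.QFCurve.Alg

set_option linter.style.haveILetI false
set_option linter.unusedVariables false
set_option linter.unusedSectionVars false
set_option autoImplicit false
set_option backward.isDefEq.respectTransparency.types false

universe u

/-! helper7: a local algebra essentially of finite type with two primes and finite residue field is quasi-finite -/

namespace Groth.Agent.Helper7.QFCurve

open IsLocalRing

section

variable {A C : Type u} [CommRing A] [CommRing C] [IsLocalRing A] [IsLocalRing C]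
  [IsNoetherianRing A] [Algebra A C] [IsLocalHom (algebraMap A C)] [Algebra.EssFiniteType A C]
  [Module.Finite (ResidueField A) (ResidueField C)]

theorem comap_maximalIdeal_eq :
    (maximalIdeal C).comap (algebraMap A C) = maximalIdeal A := by
  ext a
  rw [Ideal.mem_comap, mem_maximalIdeal, mem_maximalIdeal, mem_nonunits_iff, mem_nonunits_iff,
    isUnit_map_iff]

/-- the closed fibre of a local algebra with only two primes, whose generic point does not lie
over the closed point, is finite -/
theorem finite_quotient_of_two_primes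
    (htwo : ∀ p : Ideal C, p.IsPrime → p = ⊥ ∨ p = maximalIdeal C)
    (hker : (maximalIdeal A).map (algebraMap A C) ≠ ⊥) :
    Module.Finite A (C ⧸ (maximalIdeal A).map (algebraMap A C)) := by
  set J : Ideal C := (maximalIdeal A).map (algebraMap A C) with hJ
  have hJm : J ≤ maximalIdeal C := by
    rw [hJ, Ideal.map_le_iff_le_comap, comap_maximalIdeal_eq]
  haveI : IsNoetherianRing C := Algebra.EssFiniteType.isNoetherianRing A C
  haveI : Nontrivial (C ⧸ J) := Ideal.Quotient.nontrivial_iff.mpr
    (ne_top_of_le_ne_top (maximalIdeal.isMaximal C).ne_top hJm)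
  haveI : IsLocalRing (C ⧸ J) :=
    IsLocalRing.of_surjective' (Ideal.Quotient.mk J) Ideal.Quotient.mk_surjective
  haveI : Ring.KrullDimLE 0 (C ⧸ J) := by
    rw [Ring.krullDimLE_zero_iff]
    intro I hI
    haveI : (I.comap (Ideal.Quotient.mk J)).IsPrime := Ideal.comap_isPrime _ _
    have hJI : J ≤ I.comap (Ideal.Quotient.mk J) := by
      intro x hx
      rw [Ideal.mem_comap, Ideal.Quotient.eq_zero_iff_mem.mpr hx]
      exact Ideal.zero_mem _
    rcases htwo (I.comap (Ideal.Quotient.mk J)) inferInstance with h1 | h1
    · exfalso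
      apply hker
      rw [← le_bot_iff, ← h1]
      exact hJI
    · haveI : (I.comap (Ideal.Quotient.mk J)).IsMaximal := by
        rw [h1]; infer_instance
      rw [← Ideal.map_comap_of_surjective _ Ideal.Quotient.mk_surjective I]
      refine (Ideal.map_eq_top_or_isMaximal_of_surjective _ Ideal.Quotient.mk_surjective
        inferInstance).resolve_left ?_
      rw [Ideal.map_comap_of_surjective _ Ideal.Quotient.mk_surjective I]
      exact hI.ne_top
  haveI : IsArtinianRing (C ⧸ J) :=
    isArtinianRing_iff_isNoetherianRing_krullDimLE_zero.mpr ⟨inferInstance, inferInstance⟩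
  -- the residue field of the quotient is finite over `A`
  haveI : Module.Finite A (ResidueField A) :=
    inferInstanceAs (Module.Finite A (A ⧸ maximalIdeal A))
  haveI : Module.Finite A (ResidueField C) := Module.Finite.trans (ResidueField A) (ResidueField C)
  let g : C →ₐ[A] ((C ⧸ J) ⧸ Ring.jacobson (C ⧸ J)) :=
    (Ideal.Quotient.mkₐ A (Ring.jacobson (C ⧸ J))).comp (Ideal.Quotient.mkₐ A J)
  have hgsurj : Function.Surjective g :=
    (Ideal.Quotient.mkₐ_surjective A _).comp (Ideal.Quotient.mkₐ_surjective A _)
  have hg : ∀ x ∈ maximalIdeal C, g x = 0 := by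
    intro x hx
    change Ideal.Quotient.mk _ (Ideal.Quotient.mk J x) = 0
    rw [Ideal.Quotient.eq_zero_iff_mem, ringJacobson_eq_maximalIdeal]
    haveI : IsLocalHom (Ideal.Quotient.mk J) :=
      IsLocalHom.of_surjective _ Ideal.Quotient.mk_surjective
    exact map_nonunit (Ideal.Quotient.mk J) x hx
  let gbar : (C ⧸ maximalIdeal C) →ₐ[A] ((C ⧸ J) ⧸ Ring.jacobson (C ⧸ J)) :=
    Ideal.Quotient.liftₐ (maximalIdeal C) g hg
  have hgbar : Function.Surjective gbar :=
    Ideal.Quotient.lift_surjective_of_surjective _ _ hgsurj
  haveI : Module.Finite A (C ⧸ maximalIdeal C) := ‹Module.Finite A (ResidueField C)›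
  haveI : Module.Finite A ((C ⧸ J) ⧸ Ring.jacobson (C ⧸ J)) :=
    Module.Finite.of_surjective gbar.toLinearMap hgbar
  exact IsSemiprimaryRing.finite_of_isArtinian A (C ⧸ J) (C ⧸ J)

/-- a local algebra essentially of finite type with only two primes, whose generic point does not
lie over the closed point and whose residue field is finite, is quasi-finite -/
theorem quasiFinite_of_two_primes
    (htwo : ∀ p : Ideal C, p.IsPrime → p = ⊥ ∨ p = maximalIdeal C)
    (hker : (maximalIdeal A).map (algebraMap A C) ≠ ⊥) :
    Algebra.QuasiFinite A C := by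
  let C₀ := Algebra.EssFiniteType.subalgebra A C
  let m₀ : Ideal C₀ := (maximalIdeal C).comap (algebraMap C₀ C)
  haveI : m₀.IsPrime := Ideal.comap_isPrime _ _
  have hsub : Algebra.EssFiniteType.submonoid A C = m₀.primeCompl := by
    ext c
    change IsUnit (algebraMap C₀ C c) ↔ ¬ (algebraMap C₀ C c ∈ maximalIdeal C)
    rw [mem_maximalIdeal, mem_nonunits_iff, not_not]
  haveI : IsLocalization.AtPrime C m₀ := by
    have := Algebra.EssFiniteType.isLocalization (R := A) (S := C)
    rwa [hsub] at this
  let e : Localization.AtPrime m₀ ≃ₐ[A] C :=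
    (IsLocalization.algEquiv m₀.primeCompl (Localization.AtPrime m₀) C).restrictScalars A
  have hunder : m₀.under A = maximalIdeal A := by
    change ((maximalIdeal C).comap (algebraMap C₀ C)).comap (algebraMap A C₀) = _
    rw [Ideal.comap_comap, ← IsScalarTower.algebraMap_eq, comap_maximalIdeal_eq]
  haveI : Module.Finite A (C ⧸ (maximalIdeal A).map (algebraMap A C)) :=
    finite_quotient_of_two_primes htwo hker
  haveI : Algebra.WeaklyQuasiFiniteAt A m₀ := by
    rw [Algebra.weaklyQuasiFiniteAt_iff]
    refine (Algebra.QuasiFinite.iff_of_algEquiv (Ideal.quotientEquivAlg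
      ((m₀.under A).map (algebraMap A (Localization.AtPrime m₀)))
      ((maximalIdeal A).map (algebraMap A C)) e ?_)).mpr inferInstance
    rw [hunder, Ideal.map_map]
    congr 1
    ext a
    simp
  haveI : Algebra.QuasiFiniteAt A m₀ := Algebra.QuasiFiniteAt.of_weaklyQuasiFiniteAt m₀
  exact (Algebra.QuasiFinite.iff_of_algEquiv e).mp inferInstance

end

end Groth.Agent.Helper7.QFCurve
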