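import Mathlib
import Groth.Agent.Lib.Helper7.QFCurve.Alg
import Groth.Agent.Lib.Helper4.Equi10
import Groth.Agent.Lib.Helper2.Sch.FibreDimZero

set_option linter.style.haveILetI false
set_option linter.unusedVariables false
set_option linter.unusedSectionVars false
set_option autoImplicit false
set_option backward.isDefEq.respectTransparency.types false

universe u

/-! helper7: a closed subscheme through a point, quasi-finite over the base at that point, containing a given kind of generization (locally Noetherian base) -/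

namespace Groth.Agent.Helper7.QFCurve

open CategoryTheory CategoryTheory.Limits AlgebraicGeometry

/-- a point closed and maximal in its fibre is a point of quasi-finiteness -/
theorem quasiFiniteAt_of_closed_of_max {X S : Scheme.{u}} (g : X ⟶ S) [LocallyOfFiniteType g]
    [IsLocallyNoetherian S] (x : X)
    (hmin : ∀ w : X, g w = g x → x ⤳ w → w = x)
    (hmax : ∀ w : X, g w = g x → w ⤳ x → w = x) : g.QuasiFiniteAt x := by
  rw [← Groth.Agent.Helper2.FibreDimZero.fibreDimAt_eq_zero_iff,
    Groth.Agent.Lib.Helper4.Equi10.fibreDimAt_eq_tr_of_max_nn g x hmax]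
  have hh := Groth.Agent.Lib.Helper4.FibDim4.height_fib_eq g x
  have hmin' : IsMin (⟨x, rfl⟩ : {z : X // g z = g x}) := by
    intro b hb
    have h1 : x ⤳ b.1 := hb
    have h2 := hmin b.1 b.2 h1
    have : b = ⟨x, rfl⟩ := Subtype.ext h2
    rw [this]
  rw [Order.height_eq_zero.mpr hmin'] at hh
  have h0 : Groth.Agent.Lib.Helper4.FibDim1.tr g x = 0 := by exact_mod_cast hh.symm
  rw [h0]
  rfl

/-- Let `f` be locally of finite type over a locally Noetherian base, `x` a point closed in its
fibre, `U` an open containing a generization of `x` outside the fibre. Then there is a point `z`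
of `U` outside the fibre, specializing to `x`, such that `x` is the only point of the fibre
strictly between `z` and `x`. -/
theorem exists_generization_coheight_one {X S : Scheme.{u}} (f : X ⟶ S) [LocallyOfFiniteType f]
    [IsLocallyNoetherian S] (x : X) (U : X.Opens)
    (hx' : ∃ x' : X, x' ∈ U ∧ x' ⤳ x ∧ f x' ≠ f x) :
    ∃ z : X, z ∈ U ∧ z ⤳ x ∧ f z ≠ f x ∧ ∀ w : X, z ⤳ w → w ⤳ x → f w = f x → w = x := by
  haveI : IsLocallyNoetherian X := LocallyOfFiniteType.isLocallyNoetherian f
  let R := X.presheaf.stalk x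
  let j : Spec R ⟶ X := X.fromSpecStalk x
  have hjrange : ∀ y : X, y ⤳ x ↔ ∃ p : Spec R, j p = y := by
    intro y
    have := Scheme.range_fromSpecStalk (X := X) (x := x)
    constructor
    · intro hy
      have h : y ∈ Set.range (X.fromSpecStalk x) := by rw [this]; exact hy
      exact h
    · rintro ⟨p, rfl⟩
      have h : j p ∈ Set.range (X.fromSpecStalk x) := ⟨p, rfl⟩
      rw [this] at h
      exact h
  have hfib : ∀ p : Spec R, f (j p) = f x ↔ f (j p) ∈ closure ({f x} : Set S) := by
    intro p
    constructor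
    · intro h
      rw [h]
      exact subset_closure rfl
    · intro h
      have h1 : f x ⤳ f (j p) := specializes_iff_mem_closure.mpr h
      have h2 : f (j p) ⤳ f x := ((hjrange (j p)).mpr ⟨p, rfl⟩).map f.continuous
      exact (h2.antisymm h1).eq
  let T : Set (PrimeSpectrum R) := {p | j p ∈ U ∧ f (j p) ≠ f x}
  have hTeq : T = (j ⁻¹' (U : Set X)) ∩ ((fun p => f (j p)) ⁻¹' closure ({f x} : Set S))ᶜ := by
    ext p
    change (j p ∈ U ∧ f (j p) ≠ f x) ↔ (j p ∈ U ∧ ¬ f (j p) ∈ closure ({f x} : Set S))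
    rw [Ne, hfib p]
  have hT : IsOpen T := by
    rw [hTeq]
    refine (U.isOpen.preimage j.continuous).inter ?_
    exact (isClosed_closure.preimage (f.continuous.comp j.continuous)).isOpen_compl
  have hTne : T.Nonempty := by
    obtain ⟨x', hx'U, hx'x, hx'f⟩ := hx'
    obtain ⟨p, rfl⟩ := (hjrange x').mp hx'x
    exact ⟨p, hx'U, hx'f⟩
  have hjc : j (IsLocalRing.closedPoint R) = x := Scheme.fromSpecStalk_closedPoint
  have hTm : IsLocalRing.closedPoint R ∉ T := by
    rintro ⟨-, h⟩
    apply h
    rw [hjc]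
  obtain ⟨q, ⟨hqU, hqf⟩, hq⟩ := exists_mem_forall_lt_eq_closedPoint T hT hTne hTm
  refine ⟨j q, hqU, (hjrange _).mpr ⟨q, rfl⟩, hqf, ?_⟩
  intro w hzw hwx hfw
  obtain ⟨p, rfl⟩ := (hjrange w).mp hwx
  have hemb : Topology.IsEmbedding j := j.isEmbedding
  have hqp : (q : PrimeSpectrum R) ⤳ p := hemb.isInducing.specializes_iff.mp hzw
  have hle : q ≤ p := (PrimeSpectrum.le_iff_specializes q p).mpr hqp
  rcases eq_or_lt_of_le hle with h | h
  · exfalso
    rw [← h] at hfw
    exact hqf hfw
  · rw [hq p h, hjc]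

/-- Let `f` be locally of finite type over a locally Noetherian base, `x` a point closed in its
fibre, `U` an open containing a generization of `x` outside the fibre. Then there is a closed
subscheme through `x`, quasi-finite over the base at `x`, containing a generization of `x` in `U`
outside the fibre. -/
theorem exists_subscheme_quasiFiniteAt {X S : Scheme.{u}} (f : X ⟶ S) [LocallyOfFiniteType f]
    [IsLocallyNoetherian S] (x : X)
    (hcl : IsClosed (Subtype.val ⁻¹' {x} : Set ↑(f ⁻¹' {f x}))) (U : X.Opens)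
    (hx' : ∃ x' : X, x' ∈ U ∧ x' ⤳ x ∧ f x' ≠ f x) :
    ∃ (I : X.IdealSheafData) (z₀ x₀ : ↑I.subscheme), I.subschemeι x₀ = x ∧
      (I.subschemeι ≫ f).QuasiFiniteAt x₀ ∧
      I.subschemeι z₀ ∈ U ∧ I.subschemeι z₀ ⤳ x ∧ f (I.subschemeι z₀) ≠ f x := by
  obtain ⟨z, hzU, hzx, hzf, hz⟩ := exists_generization_coheight_one f x U hx'
  let I : X.IdealSheafData :=
    Scheme.IdealSheafData.vanishingIdeal ⟨closure {z}, isClosed_closure⟩
  have hrange : Set.range I.subschemeι = closure {z} := by
    rw [I.range_subschemeι]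
    exact Scheme.IdealSheafData.coe_support_vanishingIdeal _
  obtain ⟨z₀, hz₀⟩ : z ∈ Set.range I.subschemeι := by
    rw [hrange]; exact subset_closure rfl
  obtain ⟨x₀, hx₀⟩ : x ∈ Set.range I.subschemeι := by
    rw [hrange]; exact specializes_iff_mem_closure.mp hzx
  have hinj : Function.Injective I.subschemeι := I.subschemeι.isEmbedding.injective
  refine ⟨I, z₀, x₀, hx₀, ?_, by rw [hz₀]; exact hzU, by rw [hz₀]; exact hzx,
    by rw [hz₀]; exact hzf⟩
  have hcomp : ∀ w : ↑I.subscheme, (I.subschemeι ≫ f) w = f (I.subschemeι w) := fun w => rfl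
  apply quasiFiniteAt_of_closed_of_max (I.subschemeι ≫ f) x₀
  · intro w hw hsp
    rw [hcomp, hcomp, hx₀] at hw
    have h1 : x ⤳ I.subschemeι w := by
      rw [← hx₀]; exact hsp.map I.subschemeι.continuous
    let a : ↑(f ⁻¹' {f x}) := ⟨I.subschemeι w, hw⟩
    let b : ↑(f ⁻¹' {f x}) := ⟨x, rfl⟩
    have h2 : b ⤳ a := Topology.IsInducing.subtypeVal.specializes_iff.mp h1
    have h3 : a ∈ (Subtype.val ⁻¹' {x} : Set ↑(f ⁻¹' {f x})) := h2.mem_closed hcl rfl
    have h4 : I.subschemeι w = x := h3
    exact hinj (h4.trans hx₀.symm)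
  · intro w hw hsp
    rw [hcomp, hcomp, hx₀] at hw
    have h1 : I.subschemeι w ⤳ x := by
      rw [← hx₀]; exact hsp.map I.subschemeι.continuous
    have h2 : z ⤳ I.subschemeι w := by
      rw [specializes_iff_mem_closure, ← hrange]
      exact ⟨w, rfl⟩
    exact hinj ((hz _ h2 h1 hw).trans hx₀.symm)

end Groth.Agent.Helper7.QFCurve
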